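import Groth.Prelude.Def_GSzMilK
import Mathlib.Algebra.DirectSum.Basic
import Mathlib.Tactic.LinearCombination
import Mathlib.Tactic.Abel
import Mathlib.Tactic.Ring
import Mathlib.Tactic.FieldSimp

/-!
# Symbol calculus in Milnor K-theory

Left multiplication by a unit (`lcons`), generation by symbols, the universal property in terms
of families of left-multiplication operators, and the standard identities.
-/

universe u v w

namespace Groth.Agent.Lib.MilnorK

open MilK Function

section Basic

variable {F : Type u} [Field F]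

theorem symbol_congr {n : ℕ} {x y : Fin n → Fˣ} (h : ∀ i, x i = y i) :
    (symbol x : K F n) = symbol y := by rw [funext h]

/-- Induction principle: additive properties are checked on symbols. -/
theorem induction_on {n : ℕ} {P : K F n → Prop} (z : K F n) (h0 : P 0)
    (hadd : ∀ x y, P x → P y → P (x + y)) (hneg : ∀ x, P x → P (-x))
    (hs : ∀ x : Fin n → Fˣ, P (symbol x)) : P z := by
  obtain ⟨t, rfl⟩ := mk_surjective F n z
  induction t using PiTensorProduct.induction_on with
  | smul_tprod r x =>
    rw [map_zsmul]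
    have hx : P (mk F n (PiTensorProduct.tprod ℤ x)) := hs _
    induction r using Int.induction_on with
    | zero => rw [zero_zsmul]; exact h0
    | succ k hk => rw [add_zsmul, one_zsmul]; exact hadd _ _ hk hx
    | pred k hk => rw [sub_zsmul, one_zsmul]; exact hadd _ _ hk (hneg _ hx)
  | add a b ha hb => rw [map_add]; exact hadd _ _ ha hb

theorem hom_ext {n : ℕ} {M : Type w} [AddCommGroup M] {f g : K F n →+ M}
    (h : ∀ x : Fin n → Fˣ, f (symbol x) = g (symbol x)) : f = g := by
  ext z
  induction z using induction_on with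
  | h0 => simp
  | hadd x y hx hy => simp [hx, hy]
  | hneg x hx => simp [hx]
  | hs x => exact h x

theorem le_closure_symbol {n : ℕ} (H : AddSubgroup (K F n))
    (h : ∀ x : Fin n → Fˣ, symbol x ∈ H) (z : K F n) : z ∈ H := by
  induction z using induction_on with
  | h0 => exact H.zero_mem
  | hadd x y hx hy => exact H.add_mem hx hy
  | hneg x hx => exact H.neg_mem hx
  | hs x => exact h x

theorem symbol_update_mul {n : ℕ} (x : Fin n → Fˣ) (i : Fin n) (a b : Fˣ) :
    (symbol (update x i (a * b)) : K F n) = symbol (update x i a) + symbol (update x i b) := by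
  have e : ∀ c : Fˣ, (fun j => Additive.ofMul (update x i c j)) =
      update (fun j => Additive.ofMul (x j)) i (Additive.ofMul c) := fun c => by
    funext j; by_cases h : j = i
    · subst h; simp
    · simp [h]
  simp only [symbol, e, ofMul_mul, MultilinearMap.map_update_add, map_add]

theorem symbol_cons_mul {n : ℕ} (x : Fin n → Fˣ) (a b : Fˣ) :
    (symbol (Fin.cons (a * b) x) : K F (n + 1)) =
      symbol (Fin.cons a x) + symbol (Fin.cons b x) := by
  simpa only [Fin.update_cons_zero] using
    symbol_update_mul (Fin.cons (a * b) x : Fin (n + 1) → Fˣ) 0 a b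

/-- An operation on tuples which is additive in each slot, as an integer-multilinear map. -/
def mkML {n : ℕ} {M : Type w} [AddCommGroup M] (f : (Fin n → Fˣ) → M)
    (hf : ∀ (x : Fin n → Fˣ) (i : Fin n) (a b : Fˣ),
      f (update x i (a * b)) = f (update x i a) + f (update x i b)) :
    MultilinearMap ℤ (fun _ : Fin n => Additive Fˣ) M where
  toFun x := f fun i => (x i).toMul
  map_update_add' {inst} m i a b := by
    obtain rfl : inst = instDecidableEqFin n := Subsingleton.elim _ _
    have e : ∀ c : Additive Fˣ, (fun j => (update m i c j).toMul) =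
        update (fun j => (m j).toMul) i c.toMul := fun c => by
      funext j; by_cases h : j = i
      · subst h; simp
      · simp [h]
    simp only [e]
    exact hf _ i _ _
  map_update_smul' {inst} m i c a := by
    obtain rfl : inst = instDecidableEqFin n := Subsingleton.elim _ _
    have e : ∀ c : Additive Fˣ, (fun j => (update m i c j).toMul) =
        update (fun j => (m j).toMul) i c.toMul := fun c => by
      funext j; by_cases h : j = i
      · subst h; simp
      · simp [h]
    simp only [e]
    exact map_zsmul (AddMonoidHom.mk' (fun z : Additive Fˣ => f (update (fun j => (m j).toMul) i z.toMul))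
      (fun z z' => hf _ i _ _)) c a

/-- The universal property of `MilK.K` for functions on tuples of units. -/
noncomputable def liftFun {n : ℕ} {M : Type w} [AddCommGroup M] (f : (Fin n → Fˣ) → M)
    (hf : ∀ (x : Fin n → Fˣ) (i : Fin n) (a b : Fˣ),
      f (update x i (a * b)) = f (update x i a) + f (update x i b))
    (hs : ∀ x : Fin n → Fˣ, IsSteinberg F x → f x = 0) : K F n →+ M :=
  MilK.lift (mkML f hf) fun x hx => hs x hx

@[simp]
theorem liftFun_symbol {n : ℕ} {M : Type w} [AddCommGroup M] (f : (Fin n → Fˣ) → M)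
    (hf : ∀ (x : Fin n → Fˣ) (i : Fin n) (a b : Fˣ),
      f (update x i (a * b)) = f (update x i a) + f (update x i b))
    (hs : ∀ x : Fin n → Fˣ, IsSteinberg F x → f x = 0) (x : Fin n → Fˣ) :
    liftFun f hf hs (symbol x) = f x := by
  simp [liftFun, mkML]

/-- Left multiplication by the symbol of a unit. -/
noncomputable def lcons (a : Fˣ) {n : ℕ} : K F n →+ K F (n + 1) :=
  liftFun (fun x => symbol (Fin.cons a x))
    (fun x i b c => by simp only [Fin.cons_update, symbol_update_mul])
    (fun x hx => by
      obtain ⟨i, j, hij, h⟩ := hx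
      exact symbol_eq_zero_of_isSteinberg _
        ⟨i.succ, j.succ, Fin.succ_lt_succ_iff.mpr hij, by simpa using h⟩)

@[simp]
theorem lcons_symbol (a : Fˣ) {n : ℕ} (x : Fin n → Fˣ) :
    lcons a (symbol x) = symbol (Fin.cons a x) := by simp [lcons]

theorem symbol_eq_lcons {n : ℕ} (x : Fin (n + 1) → Fˣ) :
    (symbol x : K F (n + 1)) = lcons (x 0) (symbol (Fin.tail x)) := by
  rw [lcons_symbol, Fin.cons_self_tail]

theorem lcons_mul (a b : Fˣ) {n : ℕ} (z : K F n) :
    lcons (a * b) z = lcons a z + lcons b z := by
  have : (lcons (a * b) : K F n →+ _) = lcons a + lcons b :=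
    hom_ext fun x => by simp [symbol_cons_mul]
  exact DFunLike.congr_fun this z

@[simp]
theorem lcons_one {n : ℕ} (z : K F n) : lcons (1 : Fˣ) z = 0 := by
  have h := lcons_mul (1 : Fˣ) 1 z
  rwa [one_mul, left_eq_add] at h

theorem lcons_inv (a : Fˣ) {n : ℕ} (z : K F n) : lcons a⁻¹ z = - lcons a z := by
  rw [eq_neg_iff_add_eq_zero, ← lcons_mul, inv_mul_cancel, lcons_one]

theorem lcons_div (a b : Fˣ) {n : ℕ} (z : K F n) : lcons (a / b) z = lcons a z - lcons b z := by
  rw [div_eq_mul_inv, lcons_mul, lcons_inv, sub_eq_add_neg]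

/-- `lcons`, additively in the unit. -/
noncomputable def lconsHom {n : ℕ} (z : K F n) : Additive Fˣ →+ K F (n + 1) :=
  AddMonoidHom.mk' (fun a => lcons a.toMul z) (fun a b => lcons_mul a.toMul b.toMul z)

theorem lcons_zpow (a : Fˣ) (e : ℤ) {n : ℕ} (z : K F n) :
    lcons (a ^ e) z = e • lcons a z := map_zsmul (lconsHom z) e (Additive.ofMul a)

theorem lcons_pow (a : Fˣ) (e : ℕ) {n : ℕ} (z : K F n) :
    lcons (a ^ e) z = e • lcons a z := map_nsmul (lconsHom z) e (Additive.ofMul a)

theorem lcons_steinberg {a b : Fˣ} (h : (a : F) + b = 1) {n : ℕ} (z : K F n) :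
    lcons a (lcons b z) = 0 := by
  have : (lcons a).comp (lcons b) = (0 : K F n →+ _) := hom_ext fun x => by
    simp only [AddMonoidHom.comp_apply, lcons_symbol, AddMonoidHom.zero_apply]
    exact symbol_eq_zero_of_isSteinberg _ ⟨0, (0 : Fin (n + 1)).succ, Fin.succ_pos _, by simpa using h⟩
  exact DFunLike.congr_fun this z

/-- Right-hand induction: `K F 0` is generated by the empty symbol. -/
theorem exists_zsmul_symbol_zero (z : K F 0) : ∃ k : ℤ, z = k • symbol (Fin.elim0 : Fin 0 → Fˣ) :=
  ⟨K0 F z, (K0 F).injective (by simp)⟩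

end Basic

/-- A graded family of "left multiplication by a unit" operators, additive in the unit and killing
Steinberg pairs: this is the same thing as a compatible family of maps out of Milnor K-groups. -/
structure SymbolSystem (F : Type u) [Field F] (G : ℕ → Type w) [∀ n, AddCommGroup (G n)] where
  /-- the operators -/
  op : Fˣ → ∀ n, G n →+ G (n + 1)
  op_mul : ∀ (a b : Fˣ) (n : ℕ) (z : G n), op (a * b) n z = op a n z + op b n z
  op_steinberg : ∀ (a b : Fˣ), (a : F) + b = 1 → ∀ (n : ℕ) (z : G n), op a (n + 1) (op b n z) = 0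
  /-- the value of the empty symbol -/
  base : G 0

namespace SymbolSystem

variable {F : Type u} [Field F] {G : ℕ → Type w} [∀ n, AddCommGroup (G n)]
variable (S : SymbolSystem F G)

theorem op_one (n : ℕ) (z : G n) : S.op 1 n z = 0 := by
  have h := S.op_mul 1 1 n z
  rwa [one_mul, left_eq_add] at h

theorem op_inv (a : Fˣ) (n : ℕ) (z : G n) : S.op a⁻¹ n z = - S.op a n z := by
  rw [eq_neg_iff_add_eq_zero, ← S.op_mul, inv_mul_cancel, S.op_one]

theorem op_neg_self (a : Fˣ) (n : ℕ) (z : G n) : S.op a (n + 1) (S.op (-a) n z) = 0 := by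
  rcases eq_or_ne a 1 with rfl | ha
  · exact S.op_one _ _
  have h1 : (1 : F) - a ≠ 0 := sub_ne_zero.mpr fun h => ha (Units.ext h.symm)
  have h2 : (1 : F) - (a⁻¹ : Fˣ) ≠ 0 := sub_ne_zero.mpr fun h => ha (by
    have : a⁻¹ = 1 := Units.ext h.symm
    simpa using this)
  have e : -a = Units.mk0 _ h1 * (Units.mk0 _ h2)⁻¹ := by
    rw [eq_mul_inv_iff_mul_eq]; ext; simp [mul_sub]
  rw [e, S.op_mul, S.op_inv, map_add, map_neg, S.op_steinberg _ _ (by simp), zero_add, neg_eq_zero,
    ← neg_eq_zero, ← S.op_inv, S.op_steinberg _ _ (by simp)]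

theorem op_comm (a b : Fˣ) (n : ℕ) (z : G n) :
    S.op a (n + 1) (S.op b n z) = - S.op b (n + 1) (S.op a n z) := by
  have key := S.op_neg_self (a * b) n z
  have ha := S.op_neg_self a n z
  have hb := S.op_neg_self b n z
  rw [show -(a * b) = (-a) * b by rw [neg_mul], S.op_mul a b (n + 1)] at key
  rw [S.op_mul (-a) b n z, map_add, map_add, ha, zero_add,
    show -a = (-1 : Fˣ) * a by rw [neg_one_mul], S.op_mul, map_add] at key
  rw [show -b = (-1 : Fˣ) * b by rw [neg_one_mul], S.op_mul, map_add] at hb
  linear_combination (norm := abel) key - hb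

theorem op_self (a : Fˣ) (n : ℕ) (z : G n) :
    S.op a (n + 1) (S.op a n z) = S.op a (n + 1) (S.op (-1) n z) := by
  have h : S.op a n z = S.op (-1) n z + S.op (-a) n z := by rw [← S.op_mul, neg_one_mul, neg_neg]
  rw [h, map_add, S.op_neg_self, add_zero]

/-- The value of the system on a tuple. -/
def eval : ∀ n : ℕ, (Fin n → Fˣ) → G n
  | 0, _ => S.base
  | n + 1, x => S.op (x 0) n (eval n (Fin.tail x))

theorem eval_update_mul : ∀ (n : ℕ) (x : Fin n → Fˣ) (i : Fin n) (a b : Fˣ),
    S.eval n (update x i (a * b)) = S.eval n (update x i a) + S.eval n (update x i b)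
  | 0, _, i, _, _ => i.elim0
  | n + 1, x, i, a, b => by
    cases i using Fin.cases with
    | zero =>
      simp only [eval, update_self, Fin.tail_update_zero]
      exact S.op_mul _ _ _ _
    | succ i =>
      simp only [eval, Fin.tail_update_succ, eval_update_mul n _ i a b, map_add,
        update_of_ne (Fin.succ_ne_zero i).symm]

theorem op_eval_eq_zero : ∀ (n : ℕ) (x : Fin n → Fˣ) (a : Fˣ) (j : Fin n),
    (a : F) + x j = 1 → S.op a n (S.eval n x) = 0
  | 0, _, _, j, _ => j.elim0
  | n + 1, x, a, j, h => by
    cases j using Fin.cases with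
    | zero => exact S.op_steinberg _ _ h _ _
    | succ j => rw [eval, S.op_comm, op_eval_eq_zero n (Fin.tail x) a j h, map_zero, neg_zero]

theorem eval_steinberg : ∀ (n : ℕ) (x : Fin n → Fˣ), IsSteinberg F x → S.eval n x = 0
  | 0, _, ⟨i, _⟩ => i.elim0
  | n + 1, x, ⟨i, j, hij, h⟩ => by
    cases j using Fin.cases with
    | zero => exact absurd hij (by simp)
    | succ j =>
      cases i using Fin.cases with
      | zero => exact S.op_eval_eq_zero n (Fin.tail x) _ j h
      | succ i =>
        rw [eval, eval_steinberg n (Fin.tail x) ⟨i, j, Fin.succ_lt_succ_iff.mp hij, h⟩, map_zero]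

/-- The maps out of the Milnor K-groups defined by a system. -/
noncomputable def toHom (n : ℕ) : K F n →+ G n :=
  liftFun (S.eval n) (S.eval_update_mul n) (S.eval_steinberg n)

@[simp]
theorem toHom_symbol_zero (x : Fin 0 → Fˣ) : S.toHom 0 (symbol x) = S.base :=
  liftFun_symbol _ _ _ _

@[simp]
theorem toHom_lcons (a : Fˣ) (n : ℕ) (z : K F n) :
    S.toHom (n + 1) (lcons a z) = S.op a n (S.toHom n z) := by
  have : (S.toHom (n + 1)).comp (lcons a) = (S.op a n).comp (S.toHom n) := hom_ext fun x => by
    simp [toHom, eval]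
  exact DFunLike.congr_fun this z

theorem toHom_symbol (n : ℕ) (x : Fin (n + 1) → Fˣ) :
    S.toHom (n + 1) (symbol x) = S.op (x 0) n (S.toHom n (symbol (Fin.tail x))) := by
  rw [symbol_eq_lcons, toHom_lcons]

end SymbolSystem

section Identities

variable (F : Type u) [Field F]

/-- The Milnor K-groups as a system over themselves. -/
noncomputable def selfSystem : SymbolSystem F (fun n => K F n) where
  op a _ := lcons a
  op_mul a b _ z := lcons_mul a b z
  op_steinberg _ _ h _ z := lcons_steinberg h z
  base := symbol Fin.elim0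

variable {F}

theorem lcons_neg_self (a : Fˣ) {n : ℕ} (z : K F n) : lcons a (lcons (-a) z) = 0 :=
  (selfSystem F).op_neg_self a n z

theorem lcons_comm (a b : Fˣ) {n : ℕ} (z : K F n) :
    lcons a (lcons b z) = - lcons b (lcons a z) := (selfSystem F).op_comm a b n z

theorem lcons_self (a : Fˣ) {n : ℕ} (z : K F n) :
    lcons a (lcons a z) = lcons a (lcons (-1) z) := (selfSystem F).op_self a n z

theorem symbol_one {a : Fˣ} : (symbol ![a] : K F 1) = lcons a (symbol Fin.elim0) := by
  rw [lcons_symbol]; exact symbol_congr fun i => by fin_cases i; rfl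

theorem symbol_two {a b : Fˣ} :
    (symbol ![a, b] : K F 2) = lcons a (lcons b (symbol Fin.elim0)) := by
  rw [lcons_symbol, lcons_symbol]; exact symbol_congr fun i => by fin_cases i <;> rfl

theorem mul_symbol_one (a : Fˣ) {n : ℕ} (z : K F n) :
    cast F (Nat.add_comm 1 n) (mul F 1 n (symbol ![a]) z) = lcons a z := by
  have : (cast F (Nat.add_comm 1 n)).toAddMonoidHom.comp (mul F 1 n (symbol ![a])) = lcons a :=
    hom_ext fun x => by
      simp only [AddMonoidHom.comp_apply, AddEquiv.coe_toAddMonoidHom, mul_symbol_symbol,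
        lcons_symbol, cast_symbol, Fin.append_left_eq_cons]
      exact symbol_congr fun i => by simp
  exact DFunLike.congr_fun this z

variable {E : Type v} [Field E]

theorem map_lcons (φ : F →+* E) (a : Fˣ) {n : ℕ} (z : K F n) :
    map φ (n + 1) (lcons a z) = lcons (Units.map (φ : F →* E) a) (map φ n z) := by
  have : (map φ (n + 1)).comp (lcons a) = (lcons (Units.map (φ : F →* E) a)).comp (map φ n) :=
    hom_ext fun x => by
      simp only [AddMonoidHom.comp_apply, lcons_symbol, map_symbol]
      exact symbol_congr fun i => by cases i using Fin.cases <;> simp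
  exact DFunLike.congr_fun this z

theorem map_map {E' : Type w} [Field E'] (φ : F →+* E) (ψ : E →+* E') {n : ℕ} (z : K F n) :
    map ψ n (map φ n z) = map (ψ.comp φ) n z := by
  have : (map ψ n).comp (map φ n) = map (ψ.comp φ) n := hom_ext fun x => by
    simp only [AddMonoidHom.comp_apply, map_symbol]; rfl
  exact DFunLike.congr_fun this z

theorem map_id {n : ℕ} (z : K F n) : map (RingHom.id F) n z = z := by
  have : map (RingHom.id F) n = AddMonoidHom.id _ := hom_ext fun x => by
    simp only [map_symbol, AddMonoidHom.id_apply]; exact symbol_congr fun i => by ext; rfl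
  exact DFunLike.congr_fun this z

end Identities

end Groth.Agent.Lib.MilnorK
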