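import Groth.Agent.Lib.MilnorK.Basic
import Mathlib.Algebra.DirectSum.Basic
import Mathlib.FieldTheory.Finite.Basic
import Mathlib.RingTheory.IntegralDomain
import Mathlib.Tactic.Module

/-!
# Milnor K-theory: the total group, graded commutativity, finite fields
-/

universe u v w

namespace Groth.Agent.Lib.MilnorK

open MilK Function DirectSum

variable {F : Type u} [Field F]

/-- The direct sum of all Milnor K-groups. -/
abbrev Tot (F : Type u) [Field F] : Type u := ⨁ n, K F n

/-- Left multiplication by a unit on the total group. -/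
noncomputable def L (a : Fˣ) : Tot F →+ Tot F :=
  DirectSum.toAddMonoid fun n => (DirectSum.of (fun n => K F n) (n + 1)).comp (lcons a)

@[simp]
theorem L_of (a : Fˣ) (n : ℕ) (z : K F n) :
    L a (of (fun n => K F n) n z) = of _ (n + 1) (lcons a z) := by
  simp [L]

theorem tot_induction {P : Tot F → Prop} (r : Tot F) (h0 : P 0)
    (hof : ∀ n (z : K F n), P (of (fun n => K F n) n z)) (hadd : ∀ x y, P x → P y → P (x + y)) : P r :=
  DirectSum.induction_on r h0 hof hadd

theorem L_mul (a b : Fˣ) (r : Tot F) : L (a * b) r = L a r + L b r := by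
  induction r using tot_induction with
  | h0 => simp
  | hof n z => simp [lcons_mul]
  | hadd x y hx hy => simp only [map_add, hx, hy]; abel

theorem L_comm (a b : Fˣ) (r : Tot F) : L a (L b r) = - L b (L a r) := by
  induction r using tot_induction with
  | h0 => simp
  | hof n z => simp [lcons_comm a b]
  | hadd x y hx hy => simp only [map_add, hx, hy]; abel

theorem L_steinberg {a b : Fˣ} (h : (a : F) + b = 1) (r : Tot F) : L a (L b r) = 0 := by
  induction r using tot_induction with
  | h0 => simp
  | hof n z => simp [lcons_steinberg h]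
  | hadd x y hx hy => simp only [map_add, hx, hy, add_zero]

/-- The total group as a target of a system. -/
noncomputable def totSystem {E : Type v} [Field E] (φ : E →+* F) :
    SymbolSystem E (fun _ => Tot F) where
  op a _ := L (Units.map (φ : E →* F) a)
  op_mul a b _ z := by simp [L_mul]
  op_steinberg a b h _ z := L_steinberg (by simpa using congrArg φ h) z
  base := of _ 0 (symbol Fin.elim0)

theorem of_cast {n m : ℕ} (h : n = m) (z : K F n) :
    of (fun n => K F n) m (MilK.cast F h z) = of (fun n => K F n) n z := by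
  subst h; rfl

theorem L_sign_of_append : ∀ (n m : ℕ) (a : Fin n → Fˣ) (b : Fin m → Fˣ),
    of (fun n => K F n) (n + m) (symbol (Fin.append a b)) =
      (List.ofFn a).foldr (fun x r => L x r) (of _ m (symbol b))
  | 0, m, a, b => by
    have h : Fin.append a b = b ∘ Fin.cast (Nat.zero_add m) := by
      rw [Subsingleton.elim a Fin.elim0, Fin.elim0_append]
    rw [h]
    simp only [List.ofFn_zero, List.foldr_nil]
    rw [← cast_symbol (Nat.zero_add m).symm b, of_cast]
  | n + 1, m, a, b => by
    have hn : n + 1 + m = n + m + 1 := by omega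
    rw [List.ofFn_succ, List.foldr_cons, ← L_sign_of_append n m (fun i => a i.succ) b, L_of,
      lcons_symbol, ← of_cast hn, cast_symbol]
    congr 1
    refine symbol_congr fun i => ?_
    conv_lhs => rw [← Fin.cons_self_tail a, Fin.append_cons]
    simp [Fin.tail_def]

theorem foldr_L (l : List Fˣ) (x : Fˣ) (r : Tot F) :
    L x (l.foldr (fun y s => L y s) r) = ((-1 : ℤ) ^ l.length) • l.foldr (fun y s => L y s) (L x r) := by
  induction l with
  | nil => simp
  | cons y l ih =>
    rw [List.foldr_cons, L_comm, ih, map_zsmul, List.length_cons, List.foldr_cons, pow_succ,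
      mul_comm, neg_one_mul, neg_zsmul]

theorem foldr_L_zsmul (l : List Fˣ) (k : ℤ) (r : Tot F) :
    l.foldr (fun y s => L y s) (k • r) = k • l.foldr (fun y s => L y s) r := by
  induction l with
  | nil => simp
  | cons y l ih => simp [ih, map_zsmul]

theorem foldr_swap (l l' : List Fˣ) (r : Tot F) :
    l.foldr (fun y s => L y s) (l'.foldr (fun y s => L y s) r) =
      ((-1 : ℤ) ^ (l.length * l'.length)) •
        l'.foldr (fun y s => L y s) (l.foldr (fun y s => L y s) r) := by
  induction l generalizing r with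
  | nil => simp
  | cons x l ih =>
    rw [List.foldr_cons, ih, map_zsmul, foldr_L, smul_smul, List.length_cons, List.foldr_cons,
      ← pow_add]
    congr 2
    ring

theorem mul_graded_comm (n m : ℕ) (x : K F n) (y : K F m) :
    mul F n m x y = ((-1 : ℤ) ^ (n * m)) • MilK.cast F (Nat.add_comm m n) (mul F m n y x) := by
  induction x using induction_on with
  | h0 => simp
  | hadd a b ha hb => simp only [map_add, AddMonoidHom.add_apply, ha, hb, zsmul_add]
  | hneg a ha => simp only [map_neg, AddMonoidHom.neg_apply, ha, zsmul_neg]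
  | hs a =>
  induction y using induction_on with
  | h0 => simp
  | hadd c d hc hd => simp only [map_add, AddMonoidHom.add_apply, hc, hd, zsmul_add]
  | hneg c hc => simp only [map_neg, AddMonoidHom.neg_apply, hc, zsmul_neg]
  | hs b =>
  refine DirectSum.of_injective (n + m) (?_ : of (fun n => K F n) (n + m) _ = of (fun n => K F n) (n + m) _)
  rw [map_zsmul, of_cast, mul_symbol_symbol, mul_symbol_symbol, L_sign_of_append, L_sign_of_append]
  have key : ∀ {k : ℕ} (c : Fin k → Fˣ), of (fun n => K F n) k (symbol c) =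
      (List.ofFn c).foldr (fun y s => L y s) (of _ 0 (symbol Fin.elim0)) := fun {k} c => by
    rw [← L_sign_of_append k 0 c Fin.elim0, Fin.append_elim0]
    rfl
  rw [key b, key a, foldr_swap, List.length_ofFn, List.length_ofFn]

theorem symbol_neg_self (x : Fˣ) : (symbol ![x, -x] : K F 2) = 0 := by
  rw [symbol_two, lcons_neg_self]

theorem symbol_self (x : Fˣ) : (symbol ![x, x] : K F 2) = symbol ![x, -1] := by
  rw [symbol_two, symbol_two, lcons_self]

theorem symbol_add_symbol_sum_neg_div (b c : Fˣ) (h : (b : F) + (c : F) ≠ 0) :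
    (symbol ![b, c] : K F 2) + symbol ![Units.mk0 ((b : F) + c) h, -(b / c)] = 0 := by
  rw [symbol_two, symbol_two]
  set s := Units.mk0 ((b : F) + c) h with hs
  set z : K F 0 := symbol Fin.elim0
  have h1 : lcons (b / s) (lcons (c / s) z) = 0 := lcons_steinberg (by
    simp only [Units.val_div_eq_div_val, hs, Units.val_mk0, ← add_div, div_self h]) z
  simp only [lcons_div, map_sub] at h1
  rw [show -(b / c) = (-1 : Fˣ) * (b / c) by rw [neg_one_mul], lcons_mul, lcons_div, map_add, map_sub]
  rw [lcons_comm b s, lcons_self s] at h1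
  linear_combination (norm := abel) h1

theorem odd_zsmul_eq_zero {M : Type w} [AddCommGroup M] {x : M} (h2 : x + x = 0) {k : ℤ}
    (hk : Odd k) (h : k • x = 0) : x = 0 := by
  obtain ⟨j, rfl⟩ := hk
  rwa [add_zsmul, mul_comm, mul_zsmul, two_zsmul, h2, zsmul_zero, one_zsmul, zero_add] at h

theorem lcons_self_eq_zero_of_generator [Finite F] {g : Fˣ}
    (hg : ∀ x, x ∈ Subgroup.zpowers g) {n : ℕ} (z : K F n) : lcons g (lcons g z) = 0 := by
  have : Fintype F := Fintype.ofFinite F
  have h2 : lcons g (lcons g z) + lcons g (lcons g z) = 0 := by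
    rw [lcons_self, ← map_add, ← lcons_mul, neg_mul_neg, one_mul, lcons_one, map_zero]
  by_cases hF : ringChar F = 2
  · have : CharP F 2 := hF ▸ ringChar.charP F
    have h1 : (-1 : Fˣ) = 1 := Units.ext (by simp [CharTwo.neg_eq])
    rw [lcons_self, h1, lcons_one, map_zero]
  · obtain ⟨ν, hν⟩ := FiniteField.exists_nonsquare hF
    have hν0 : ν ≠ 0 := fun h => hν (h ▸ IsSquare.zero)
    obtain ⟨s, t, hst⟩ := FiniteField.exists_root_sum_quadratic (R := F)
      (f := Polynomial.X ^ 2) (g := Polynomial.X ^ 2 - Polynomial.C ν⁻¹) (Polynomial.degree_X_pow 2)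
      (Polynomial.degree_X_pow_sub_C two_pos ν⁻¹) (FiniteField.odd_card_of_char_ne_two hF)
    simp only [Polynomial.eval_pow, Polynomial.eval_X, Polynomial.eval_sub, Polynomial.eval_C] at hst
    have hs : s ≠ 0 := fun h => hν (by
      refine isSquare_inv.mp ⟨t, ?_⟩
      subst h; linear_combination -hst)
    have ht : t ≠ 0 := fun h => hν (by
      refine isSquare_inv.mp ⟨s, ?_⟩
      subst h; linear_combination -hst)
    let νu : Fˣ := Units.mk0 ν hν0
    let su : Fˣ := Units.mk0 s hs
    let tu : Fˣ := Units.mk0 t ht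
    have hsum : ((νu * (su * su) : Fˣ) : F) + (νu * (tu * tu) : Fˣ) = 1 := by
      simp only [Units.val_mul, νu, su, tu, Units.val_mk0]
      field_simp at hst
      linear_combination hst
    have hodd : ∀ a : Fˣ, ∃ k : ℤ, Odd k ∧ νu * (a * a) = g ^ k := by
      intro a
      obtain ⟨i, hi⟩ := hg νu
      obtain ⟨j, hj⟩ := hg a
      simp only at hi hj
      refine ⟨i + (j + j), ?_, by rw [zpow_add, zpow_add, hi, hj]⟩
      rcases Int.even_or_odd i with ⟨l, rfl⟩ | hodd
      · exact absurd ⟨((g ^ l : Fˣ) : F), by rw [← Units.val_mul, ← zpow_add, hi]; rfl⟩ hν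
      · exact hodd.add_even ⟨j, rfl⟩
    obtain ⟨k, hk, hk'⟩ := hodd su
    obtain ⟨l, hl, hl'⟩ := hodd tu
    have h0 := lcons_steinberg hsum z
    rw [hk', hl', lcons_zpow, lcons_zpow, map_zsmul, smul_smul] at h0
    exact odd_zsmul_eq_zero h2 (hk.mul hl) h0

theorem eq_zero_of_finite [Finite F] (n : ℕ) (x : K F (n + 2)) : x = 0 := by
  obtain ⟨g, hg⟩ := IsCyclic.exists_generator (α := Fˣ)
  induction x using induction_on with
  | h0 => rfl
  | hadd a b ha hb => rw [ha, hb, add_zero]
  | hneg a ha => rw [ha, neg_zero]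
  | hs a =>
    obtain ⟨i, hi⟩ := hg (a 0)
    obtain ⟨j, hj⟩ := hg (a 1)
    simp only at hi hj
    rw [symbol_eq_lcons, symbol_eq_lcons (Fin.tail a), show Fin.tail a 0 = a 1 from rfl, ← hi, ← hj,
      lcons_zpow, lcons_zpow, map_zsmul, lcons_self_eq_zero_of_generator hg, zsmul_zero, zsmul_zero]

end Groth.Agent.Lib.MilnorK
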