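import Groth.Agent.Lib.MilnorK.Graded
import Mathlib.RingTheory.LocalRing.ResidueField.Basic
import Mathlib.RingTheory.Henselian

/-!
# Milnor K-theory of a discretely valued field

Existence, uniqueness, surjectivity and kernels of the tame symbol and of the specialization maps.
-/

set_option linter.unusedSectionVars false

universe u v w

namespace Groth.Agent.Lib.MilnorK

open MilK Function DirectSum IsLocalRing

section Decomposition

variable (A : Type u) [CommRing A] [IsDomain A] (L : Type v) [Field L] [Algebra A L]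
  [IsFractionRing A L]

theorem unitToFrac_injective : Function.Injective (unitToFrac A L) :=
  Units.map_injective (IsFractionRing.injective A L)

variable {A}

theorem coe_unitToFrac (u : Aˣ) : (unitToFrac A L u : L) = algebraMap A L u := rfl

theorem unitFrac_mul_unit (a : A) (ha : a ≠ 0) (w : Aˣ) (ha' : a * w ≠ 0) :
    unitFrac A L (a * w) ha' = unitFrac A L a ha * unitToFrac A L w := by
  ext; simp [coe_unitToFrac]

variable [IsDiscreteValuationRing A] {ϖ : A} (hϖ : Irreducible ϖ)

theorem exists_decomp (x : Lˣ) :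
    ∃ (e : ℤ) (u : Aˣ), x = unitFrac A L ϖ hϖ.ne_zero ^ e * unitToFrac A L u := by
  obtain ⟨a, b, hb, hx⟩ := IsFractionRing.div_surjective (A := A) (x : L)
  have hb0 : b ≠ 0 := nonZeroDivisors.ne_zero hb
  have ha0 : a ≠ 0 := by rintro rfl; exact x.ne_zero (by simp [← hx])
  obtain ⟨n, u, rfl⟩ := IsDiscreteValuationRing.eq_unit_mul_pow_irreducible ha0 hϖ
  obtain ⟨m, v, rfl⟩ := IsDiscreteValuationRing.eq_unit_mul_pow_irreducible hb0 hϖ
  refine ⟨(n : ℤ) - m, u * v⁻¹, Units.ext ?_⟩
  rw [← hx]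
  simp [zpow_sub, coe_unitToFrac, div_eq_mul_inv, mul_comm, mul_assoc, mul_left_comm]

theorem decomp_unique {e f : ℤ} {u v : Aˣ}
    (h : unitFrac A L ϖ hϖ.ne_zero ^ e * unitToFrac A L u =
      unitFrac A L ϖ hϖ.ne_zero ^ f * unitToFrac A L v) : e = f ∧ u = v := by
  set p := unitFrac A L ϖ hϖ.ne_zero with hp
  have key : ∀ (k : ℕ) (w : Aˣ), p ^ k = unitToFrac A L w → k = 0 := by
    intro k w hk
    by_contra hk0
    refine hϖ.not_isUnit (isUnit_pow_iff hk0 |>.mp ?_)
    have : ϖ ^ k = (w : A) := IsFractionRing.injective A L (by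
      simpa [hp, coe_unitToFrac] using congrArg Units.val hk)
    exact this ▸ w.isUnit
  have he : e = f := by
    rcases le_total e f with hle | hle
    · obtain ⟨k, hk⟩ := Int.le.dest hle
      subst hk
      rw [zpow_add, zpow_natCast, mul_assoc, mul_left_cancel_iff] at h
      have := key k (u * v⁻¹) (by rw [map_mul, map_inv, h, mul_inv_cancel_right])
      simp [this]
    · obtain ⟨k, hk⟩ := Int.le.dest hle
      subst hk
      rw [zpow_add, zpow_natCast, mul_assoc, mul_left_cancel_iff] at h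
      have := key k (v * u⁻¹) (by rw [map_mul, map_inv, ← h, mul_inv_cancel_right])
      simp [this]
  subst he
  exact ⟨rfl, unitToFrac_injective A L (mul_left_cancel h)⟩

/-- The order of a unit of the fraction field with respect to a uniformizer. -/
noncomputable def ord (x : Lˣ) : ℤ := (exists_decomp L hϖ x).choose

/-- The unit part of a unit of the fraction field with respect to a uniformizer. -/
noncomputable def uPart (x : Lˣ) : Aˣ := (exists_decomp L hϖ x).choose_spec.choose

theorem ord_uPart_spec (x : Lˣ) :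
    x = unitFrac A L ϖ hϖ.ne_zero ^ ord L hϖ x * unitToFrac A L (uPart L hϖ x) :=
  (exists_decomp L hϖ x).choose_spec.choose_spec

theorem ord_uPart_eq {x : Lˣ} {e : ℤ} {u : Aˣ}
    (h : x = unitFrac A L ϖ hϖ.ne_zero ^ e * unitToFrac A L u) :
    ord L hϖ x = e ∧ uPart L hϖ x = u :=
  decomp_unique L hϖ ((ord_uPart_spec L hϖ x).symm.trans h)

@[simp]
theorem ord_decomp (e : ℤ) (u : Aˣ) :
    ord L hϖ (unitFrac A L ϖ hϖ.ne_zero ^ e * unitToFrac A L u) = e :=
  (ord_uPart_eq L hϖ rfl).1

@[simp]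
theorem uPart_decomp (e : ℤ) (u : Aˣ) :
    uPart L hϖ (unitFrac A L ϖ hϖ.ne_zero ^ e * unitToFrac A L u) = u :=
  (ord_uPart_eq L hϖ rfl).2

theorem ord_uPart_mul (x y : Lˣ) :
    ord L hϖ (x * y) = ord L hϖ x + ord L hϖ y ∧ uPart L hϖ (x * y) = uPart L hϖ x * uPart L hϖ y := by
  refine ord_uPart_eq L hϖ ?_
  conv_lhs => rw [ord_uPart_spec L hϖ x, ord_uPart_spec L hϖ y]
  rw [zpow_add, map_mul, mul_mul_mul_comm]

theorem ord_uPart_unitToFrac (u : Aˣ) :
    ord L hϖ (unitToFrac A L u) = 0 ∧ uPart L hϖ (unitToFrac A L u) = u :=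
  ord_uPart_eq L hϖ (by simp)

theorem ord_uPart_self :
    ord L hϖ (unitFrac A L ϖ hϖ.ne_zero) = 1 ∧ uPart L hϖ (unitFrac A L ϖ hϖ.ne_zero) = 1 :=
  ord_uPart_eq L hϖ (by simp)

include hϖ in
theorem exists_eq_mul_unit_of_irreducible {ϖ' : A} (hϖ' : Irreducible ϖ') :
    ∃ w : Aˣ, ϖ' = ϖ * w ∧
      unitFrac A L ϖ' hϖ'.ne_zero = unitFrac A L ϖ hϖ.ne_zero * unitToFrac A L w := by
  obtain ⟨w, rfl⟩ := IsDiscreteValuationRing.associated_of_irreducible A hϖ hϖ'
  exact ⟨w, rfl, unitFrac_mul_unit L ϖ hϖ.ne_zero w hϖ'.ne_zero⟩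

include hϖ in
theorem residue_uniformizer : residue A ϖ = 0 :=
  (residue_eq_zero_iff ϖ).mpr ((mem_maximalIdeal ϖ).mpr hϖ.not_isUnit)

include hϖ in
theorem posCase {x y : Lˣ} (h : (x : L) + y = 1) (he : 0 < ord L hϖ x) :
    ord L hϖ y = 0 ∧ unitResidue A (uPart L hϖ y) = 1 := by
  obtain ⟨k, hk⟩ : ∃ k : ℕ, ord L hϖ x = (k + 1 : ℕ) :=
    ⟨(ord L hϖ x).toNat - 1, by omega⟩
  set u := uPart L hϖ x
  have hr : residue A (1 - ϖ ^ (k + 1) * u) = 1 := by
    rw [map_sub, map_mul, map_pow, residue_uniformizer hϖ]; simp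
  have hunit : IsUnit (1 - ϖ ^ (k + 1) * (u : A)) := (residue_ne_zero_iff_isUnit _).mp (by simp [hr])
  obtain ⟨w, hw⟩ := hunit
  have hy : y = unitFrac A L ϖ hϖ.ne_zero ^ (0 : ℤ) * unitToFrac A L w := by
    ext
    have hx := congrArg Units.val (ord_uPart_spec L hϖ x)
    rw [hk, zpow_natCast] at hx
    simp only [Units.val_mul, Units.val_pow_eq_pow_val, coe_unitFrac, coe_unitToFrac] at hx
    simp only [zpow_zero, one_mul, coe_unitToFrac, hw, map_sub, map_one, map_mul, map_pow]
    linear_combination h - hx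
  obtain ⟨h1, h2⟩ := ord_uPart_eq L hϖ hy
  exact ⟨h1, Units.ext (by simp [h2, unitResidue, hw, hr])⟩

include hϖ in
theorem negCase {x y : Lˣ} (h : (x : L) + y = 1) (he : ord L hϖ x < 0) :
    ord L hϖ y = ord L hϖ x ∧
      unitResidue A (uPart L hϖ y) = - unitResidue A (uPart L hϖ x) := by
  have hsum : ((x⁻¹ : Lˣ) : L) + (-(y * x⁻¹) : Lˣ) = 1 := by
    simp only [Units.val_inv_eq_inv_val, Units.val_neg, Units.val_mul]
    field_simp
    linear_combination -h
  have hinv : ord L hϖ x⁻¹ = - ord L hϖ x ∧ uPart L hϖ x⁻¹ = (uPart L hϖ x)⁻¹ :=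
    ord_uPart_eq L hϖ (by
      conv_lhs => rw [ord_uPart_spec L hϖ x]
      rw [mul_inv, zpow_neg, map_inv])
  obtain ⟨h0, h1⟩ := posCase L hϖ hsum (by rw [hinv.1]; omega)
  have hy : y = (-(y * x⁻¹)) * (unitToFrac A L (-1)) * x := by
    ext; simp [coe_unitToFrac]
  obtain ⟨ha, hb⟩ := ord_uPart_mul L hϖ ((-(y * x⁻¹)) * (unitToFrac A L (-1))) x
  obtain ⟨hc, hd⟩ := ord_uPart_mul L hϖ (-(y * x⁻¹)) (unitToFrac A L (-1))
  obtain ⟨he', hf⟩ := ord_uPart_unitToFrac L hϖ (-1 : Aˣ)
  rw [← hy] at ha hb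
  refine ⟨by omega, ?_⟩
  rw [hb, hd, hf, map_mul, map_mul, h1, one_mul]
  ext; simp [unitResidue]

end Decomposition

section Pair

variable {k : Type u} [Field k]

theorem L_neg_one_add (r : Tot k) : L (-1 : kˣ) r + L (-1 : kˣ) r = 0 := by
  rw [← L_mul, neg_mul_neg, one_mul]
  have h := L_mul (1 : kˣ) 1 r
  rwa [one_mul, left_eq_add] at h

theorem L_one (r : Tot k) : L (1 : kˣ) r = 0 := by
  have h := L_mul (1 : kˣ) 1 r
  rwa [one_mul, left_eq_add] at h

/-- The operator of `π ^ e * u` on pairs (specialization, residue). -/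
noncomputable def opPair (e : ℤ) (u : kˣ) : Tot k × Tot k →+ Tot k × Tot k :=
  AddMonoidHom.mk' (fun z => (L u z.1, - L u z.2 + e • (z.1 + L (-1 : kˣ) z.2))) fun a b => by
    ext1
    · simp
    · simp only [Prod.snd_add, Prod.fst_add, map_add]; module

theorem opPair_apply (e : ℤ) (u : kˣ) (a b : Tot k) :
    opPair e u (a, b) = (L u a, - L u b + e • (a + L (-1 : kˣ) b)) := rfl

theorem opPair_fst (e : ℤ) (u : kˣ) (z : Tot k × Tot k) : (opPair e u z).1 = L u z.1 := rfl

theorem opPair_snd (e : ℤ) (u : kˣ) (z : Tot k × Tot k) :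
    (opPair e u z).2 = - L u z.2 + e • (z.1 + L (-1 : kˣ) z.2) := rfl

theorem opPair_mul (e f : ℤ) (u v : kˣ) (z : Tot k × Tot k) :
    opPair (e + f) (u * v) z = opPair e u z + opPair f v z := by
  obtain ⟨a, b⟩ := z
  simp only [opPair_apply, L_mul, Prod.mk_add_mk]
  ext1 <;> [rfl; module]

theorem opPair_comm (e f : ℤ) (u v : kˣ) (z : Tot k × Tot k) :
    opPair e u (opPair f v z) = - opPair f v (opPair e u z) := by
  obtain ⟨a, b⟩ := z
  simp only [opPair_apply, Prod.neg_mk, map_add, map_neg, map_zsmul]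
  ext1
  · exact L_comm u v a
  · simp only [L_comm v u b, L_comm (-1 : kˣ) u b, L_comm (-1 : kˣ) v b]
    linear_combination (norm := module) (e * f) • L_neg_one_add a +
      (e * f) • L_neg_one_add (L (-1 : kˣ) b)

theorem opPair_zero_one (z : Tot k × Tot k) : opPair 0 (1 : kˣ) z = 0 := by
  obtain ⟨a, b⟩ := z
  simp [opPair_apply, L_one]

theorem opPair_steinberg {u v : kˣ} (h : (u : k) + v = 1) (z : Tot k × Tot k) :
    opPair 0 u (opPair 0 v z) = 0 := by
  obtain ⟨a, b⟩ := z
  simp [opPair_apply, L_steinberg h, map_neg]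

theorem opPair_neg (e : ℤ) (u : kˣ) (z : Tot k × Tot k) :
    opPair e u (opPair e (-u) z) = 0 := by
  obtain ⟨a, b⟩ := z
  have hneg : ∀ r, L (-u) r = L (-1 : kˣ) r + L u r := fun r => by rw [← L_mul, neg_one_mul]
  have huu : ∀ r, L u (L u r) = L u (L (-1 : kˣ) r) := fun r => by
    induction r using tot_induction with
    | h0 => simp
    | hof n z => simp [lcons_self u]
    | hadd x y hx hy => simp only [map_add, hx, hy]
  have h2 : ∀ r : Tot k, L u (L (-1 : kˣ) r) + L u (L (-1 : kˣ) r) = 0 := fun r => by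
    rw [← map_add, L_neg_one_add, map_zero]
  obtain ⟨m, hm⟩ : Even (e * (e + 1)) := Int.even_mul_succ_self e
  obtain ⟨m', hm'⟩ : Even (e * (e - 1)) := Int.even_mul_pred_self e
  simp only [opPair_apply, map_add, map_neg, map_zsmul, hneg]
  ext1
  · simp only [Prod.fst_zero, huu]; exact h2 a
  · simp only [Prod.snd_zero, huu, L_comm (-1 : kˣ) u b]
    have e1 : (e * e + e) • L (-1 : kˣ) a = 0 := by
      rw [show e * e + e = m + m by linarith, add_zsmul, ← zsmul_add, L_neg_one_add, zsmul_zero]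
    have e2 : (e * e - e) • L (-1 : kˣ) (L (-1 : kˣ) b) = 0 := by
      rw [show e * e - e = m' + m' by linarith, add_zsmul, ← zsmul_add, L_neg_one_add, zsmul_zero]
    linear_combination (norm := module) e1 + e2 + h2 b

end Pair

section Maps

variable (A : Type u) [CommRing A] [IsDomain A] [IsDiscreteValuationRing A]
  (F : Type v) [Field F] [Algebra A F] [IsFractionRing A F] {ϖ : A} (hϖ : Irreducible ϖ)

/-- The system computing specialization and residue at once. -/
noncomputable def pairSystem :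
    SymbolSystem F (fun _ => Tot (ResidueField A) × Tot (ResidueField A)) where
  op x _ := opPair (ord F hϖ x) (unitResidue A (uPart F hϖ x))
  op_mul x y _ z := by
    obtain ⟨h1, h2⟩ := ord_uPart_mul F hϖ x y
    rw [h1, h2, map_mul, opPair_mul]
  op_steinberg x y h _ z := by
    have h' : (y : F) + x = 1 := by rw [add_comm]; exact h
    rcases lt_trichotomy 0 (ord F hϖ x) with he | he | he
    · obtain ⟨h0, h1⟩ := posCase F hϖ h he
      rw [h0, h1, opPair_zero_one, map_zero]
    · rcases lt_trichotomy 0 (ord F hϖ y) with hf | hf | hf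
      · obtain ⟨h0, h1⟩ := posCase F hϖ h' hf
        rw [opPair_comm, h0, h1, opPair_zero_one, map_zero, neg_zero]
      · rw [← he, ← hf]
        refine opPair_steinberg ?_ z
        have hx := ord_uPart_spec F hϖ x
        have hy := ord_uPart_spec F hϖ y
        rw [← he, zpow_zero, one_mul] at hx
        rw [← hf, zpow_zero, one_mul] at hy
        rw [hx, hy, coe_unitToFrac, coe_unitToFrac, ← map_add, ← map_one (algebraMap A F)] at h
        simpa [unitResidue] using congrArg (residue A) (IsFractionRing.injective A F h)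
      · obtain ⟨h0, _⟩ := negCase F hϖ h' hf
        omega
    · obtain ⟨h0, h1⟩ := negCase F hϖ h he
      rw [h0, h1, opPair_neg]
  base := (of _ 0 (symbol Fin.elim0), 0)

theorem pairSystem_fst : ∀ (n : ℕ) (x : Fin n → Fˣ),
    ((pairSystem A F hϖ).toHom n (symbol x)).1 =
      of (fun n => K (ResidueField A) n) n (symbol fun i => unitResidue A (uPart F hϖ (x i)))
  | 0, x => by
    rw [SymbolSystem.toHom_symbol_zero]
    simp only [pairSystem]
    congr 1
    exact symbol_congr fun i => i.elim0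
  | n + 1, x => by
    rw [SymbolSystem.toHom_symbol]
    have ih := pairSystem_fst n (Fin.tail x)
    simp only [pairSystem] at ih ⊢
    rw [opPair_fst, ih, L_of, lcons_symbol]
    congr 1
    exact symbol_congr fun i => by cases i using Fin.cases <;> rfl

theorem pairSystem_units_snd : ∀ (n : ℕ) (u : Fin n → Aˣ),
    ((pairSystem A F hϖ).toHom n (symbol fun i => unitToFrac A F (u i))).2 = 0
  | 0, x => by rw [SymbolSystem.toHom_symbol_zero]; rfl
  | n + 1, u => by
    rw [SymbolSystem.toHom_symbol]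
    have ih : ((pairSystem A F hϖ).toHom n (symbol (Fin.tail fun i => unitToFrac A F (u i)))).2 = 0 :=
      pairSystem_units_snd n (Fin.tail u)
    simp only [pairSystem] at ih ⊢
    rw [opPair_snd]
    simp [(ord_uPart_unitToFrac F hϖ (u 0)).1, ih]

/-- The specialization map of a uniformizer. -/
noncomputable def specMap (n : ℕ) : K F n →+ K (ResidueField A) n :=
  (component ℤ ℕ (fun n => K (ResidueField A) n) n).toAddMonoidHom.comp
    ((AddMonoidHom.fst _ _).comp ((pairSystem A F hϖ).toHom n))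

theorem specMap_symbol (n : ℕ) (x : Fin n → Fˣ) :
    specMap A F hϖ n (symbol x) = symbol fun i => unitResidue A (uPart F hϖ (x i)) := by
  simp only [specMap, AddMonoidHom.comp_apply, AddMonoidHom.coe_fst, pairSystem_fst,
    LinearMap.toAddMonoidHom_coe]
  rw [← DirectSum.lof_eq_of ℤ, component.lof_self]

theorem isSpecMap_specMap (n : ℕ) : IsSpecMap A F ϖ hϖ n (specMap A F hϖ n) := fun e u => by
  rw [specMap_symbol]; simp

theorem isSpecMap_unique {n : ℕ} {s : K F n →+ K (ResidueField A) n}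
    (hs : IsSpecMap A F ϖ hϖ n s) : s = specMap A F hϖ n := by
  refine hom_ext fun x => ?_
  rw [specMap_symbol]
  have hx : x = fun i => unitFrac A F ϖ hϖ.ne_zero ^ ord F hϖ (x i) *
      unitToFrac A F (uPart F hϖ (x i)) := funext fun i => ord_uPart_spec F hϖ (x i)
  conv_lhs => rw [hx]
  exact hs _ _

/-- The residue map computed with a chosen uniformizer. -/
noncomputable def tameAux (n : ℕ) : K F (n + 1) →+ K (ResidueField A) n :=
  (component ℤ ℕ (fun n => K (ResidueField A) n) n).toAddMonoidHom.comp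
    ((AddMonoidHom.snd _ _).comp ((pairSystem A F hϖ).toHom (n + 1)))

theorem isTameSymbol_tameAux (n : ℕ) : IsTameSymbol A F n (tameAux A F hϖ n) := by
  intro ϖ' hϖ' u
  obtain ⟨w, _, hw⟩ := exists_eq_mul_unit_of_irreducible F hϖ hϖ'
  obtain ⟨h1, h2⟩ : ord F hϖ (unitFrac A F ϖ' hϖ'.ne_zero) = 1 ∧ _ = w :=
    ord_uPart_eq F hϖ (by rw [hw, zpow_one])
  have hfst := pairSystem_fst A F hϖ n (fun i => unitToFrac A F (u i))
  have hsnd := pairSystem_units_snd A F hϖ n u
  simp only [tameAux, AddMonoidHom.comp_apply, SymbolSystem.toHom_symbol, Fin.cons_zero, Fin.tail_cons,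
    AddMonoidHom.coe_snd, LinearMap.toAddMonoidHom_coe]
  simp only [pairSystem, h1, opPair_snd] at hfst hsnd ⊢
  rw [hfst, hsnd, map_zero, map_zero, neg_zero, zero_add, add_zero, one_zsmul,
    ← DirectSum.lof_eq_of ℤ, component.lof_self]
  simp only [(ord_uPart_unitToFrac F hϖ _).2]

/-- The subgroup generated by symbols of units of the valuation ring. -/
def U (n : ℕ) : AddSubgroup (K F n) :=
  AddSubgroup.closure {z : K F n | ∃ u : Fin n → Aˣ, z = symbol (fun i => unitToFrac A F (u i))}

theorem symbol_units_mem {n : ℕ} (u : Fin n → Aˣ) :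
    (symbol fun i => unitToFrac A F (u i)) ∈ U A F n :=
  AddSubgroup.subset_closure ⟨u, rfl⟩

theorem U_zero (z : K F 0) : z ∈ U A F 0 :=
  le_closure_symbol _ (fun x => by
    have : x = fun i => unitToFrac A F ((Fin.elim0 : Fin 0 → Aˣ) i) := funext fun i => i.elim0
    rw [this]; exact symbol_units_mem A F _) z

theorem lcons_unit_mem (u : Aˣ) {n : ℕ} {z : K F n} (hz : z ∈ U A F n) :
    lcons (unitToFrac A F u) z ∈ U A F (n + 1) := by
  induction hz using AddSubgroup.closure_induction with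
  | mem z hz =>
    obtain ⟨v, rfl⟩ := hz
    rw [lcons_symbol, show (Fin.cons (unitToFrac A F u) fun i => unitToFrac A F (v i)) =
      fun i => unitToFrac A F ((Fin.cons u v : Fin (n + 1) → Aˣ) i) from
        funext fun i => by cases i using Fin.cases <;> rfl]
    exact symbol_units_mem A F _
  | zero => simp
  | add a b _ _ ha hb => rw [map_add]; exact add_mem ha hb
  | neg a _ ha => rw [map_neg]; exact neg_mem ha

include hϖ in
theorem exists_eq_add_lcons : ∀ (n : ℕ) (x : K F (n + 1)),
    ∃ a ∈ U A F (n + 1), ∃ b ∈ U A F n, x = a + lcons (unitFrac A F ϖ hϖ.ne_zero) b := by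
  intro n
  induction n with
  | zero =>
    intro x
    induction x using induction_on with
    | h0 => exact ⟨0, zero_mem _, 0, zero_mem _, by simp⟩
    | hadd x y hx hy =>
      obtain ⟨a, ha, b, hb, rfl⟩ := hx
      obtain ⟨a', ha', b', hb', rfl⟩ := hy
      exact ⟨a + a', add_mem ha ha', b + b', add_mem hb hb', by rw [map_add]; abel⟩
    | hneg x hx =>
      obtain ⟨a, ha, b, hb, rfl⟩ := hx
      exact ⟨-a, neg_mem ha, -b, neg_mem hb, by rw [map_neg]; abel⟩
    | hs x =>
      refine ⟨lcons (unitToFrac A F (uPart F hϖ (x 0))) (symbol (Fin.tail x)),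
        lcons_unit_mem A F _ (U_zero A F _), ord F hϖ (x 0) • symbol (Fin.tail x), U_zero A F _, ?_⟩
      rw [symbol_eq_lcons]
      conv_lhs => rw [ord_uPart_spec F hϖ (x 0)]
      rw [lcons_mul, lcons_zpow, map_zsmul]; abel
  | succ n ih =>
    intro x
    induction x using induction_on with
    | h0 => exact ⟨0, zero_mem _, 0, zero_mem _, by simp⟩
    | hadd x y hx hy =>
      obtain ⟨a, ha, b, hb, rfl⟩ := hx
      obtain ⟨a', ha', b', hb', rfl⟩ := hy
      exact ⟨a + a', add_mem ha ha', b + b', add_mem hb hb', by rw [map_add]; abel⟩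
    | hneg x hx =>
      obtain ⟨a, ha, b, hb, rfl⟩ := hx
      exact ⟨-a, neg_mem ha, -b, neg_mem hb, by rw [map_neg]; abel⟩
    | hs x =>
      obtain ⟨a, ha, b, hb, hab⟩ := ih (symbol (Fin.tail x))
      set e := ord F hϖ (x 0)
      set u := unitToFrac A F (uPart F hϖ (x 0)) with hu
      set p := unitFrac A F ϖ hϖ.ne_zero
      refine ⟨lcons u a, lcons_unit_mem A F _ ha,
        e • a + e • lcons (unitToFrac A F (-1)) b - lcons u b,
        sub_mem (add_mem (zsmul_mem ha _) (zsmul_mem (lcons_unit_mem A F _ hb) _))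
          (lcons_unit_mem A F _ hb), ?_⟩
      have hneg : (-1 : Fˣ) = unitToFrac A F (-1) := by ext; simp [coe_unitToFrac]
      rw [symbol_eq_lcons, hab]
      conv_lhs => rw [ord_uPart_spec F hϖ (x 0)]
      rw [lcons_mul, lcons_zpow, map_add, map_add, lcons_self, hneg, lcons_comm u p b, map_sub,
        map_add, map_zsmul, map_zsmul]
      module

theorem tame_eq_zero_of_mem {n : ℕ} {d : K F (n + 1) →+ K (ResidueField A) n}
    (hd : IsTameSymbol A F n d) {z : K F (n + 1)} (hz : z ∈ U A F (n + 1)) : d z = 0 := by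
  obtain ⟨ϖ, hϖ⟩ := IsDiscreteValuationRing.exists_irreducible A
  induction hz using AddSubgroup.closure_induction with
  | mem z hz =>
    obtain ⟨u, rfl⟩ := hz
    have hirr : Irreducible (ϖ * (u 0 : A)) := by
      rw [irreducible_mul_units]; exact hϖ
    have h1 := hd (ϖ * (u 0 : A)) hirr (Fin.tail u)
    have h2 := hd ϖ hϖ (Fin.tail u)
    rw [unitFrac_mul_unit F ϖ hϖ.ne_zero (u 0) hirr.ne_zero, symbol_cons_mul, map_add, h2,
      add_eq_left] at h1
    rw [symbol_eq_lcons, lcons_symbol]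
    exact h1
  | zero => simp
  | add a b _ _ ha hb => rw [map_add, ha, hb, add_zero]
  | neg a _ ha => rw [map_neg, ha, neg_zero]

theorem spec_of_mem {n : ℕ} {d : K F (n + 1) →+ K (ResidueField A) n}
    (hd : IsTameSymbol A F n d) {ϖ' : A} (hϖ' : Irreducible ϖ') {z : K F n} (hz : z ∈ U A F n) :
    d (lcons (unitFrac A F ϖ' hϖ'.ne_zero) z) = specMap A F hϖ n z := by
  induction hz using AddSubgroup.closure_induction with
  | mem z hz =>
    obtain ⟨u, rfl⟩ := hz
    rw [lcons_symbol, hd ϖ' hϖ' u, specMap_symbol]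
    exact symbol_congr fun i => by rw [(ord_uPart_unitToFrac F hϖ _).2]
  | zero => simp
  | add a b _ _ ha hb => simp only [map_add, ha, hb]
  | neg a _ ha => simp only [map_neg, ha]

theorem tame_apply {n : ℕ} {d : K F (n + 1) →+ K (ResidueField A) n}
    (hd : IsTameSymbol A F n d) {a : K F (n + 1)} (ha : a ∈ U A F (n + 1)) {b : K F n}
    (hb : b ∈ U A F n) :
    d (a + lcons (unitFrac A F ϖ hϖ.ne_zero) b) = specMap A F hϖ n b := by
  rw [map_add, tame_eq_zero_of_mem A F hd ha, zero_add, spec_of_mem A F hϖ hd hϖ hb]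

theorem existsUnique_tameSymbol (n : ℕ) :
    ∃! d : K F (n + 1) →+ K (ResidueField A) n, IsTameSymbol A F n d := by
  obtain ⟨ϖ, hϖ⟩ := IsDiscreteValuationRing.exists_irreducible A
  refine ⟨tameAux A F hϖ n, isTameSymbol_tameAux A F hϖ n, fun d hd => ?_⟩
  ext x
  obtain ⟨a, ha, b, hb, rfl⟩ := exists_eq_add_lcons A F hϖ n x
  rw [tame_apply A F hϖ hd ha hb, tame_apply A F hϖ (isTameSymbol_tameAux A F hϖ n) ha hb]

theorem isTameSymbol_eq {n : ℕ} {d : K F (n + 1) →+ K (ResidueField A) n}
    (hd : IsTameSymbol A F n d) : d = tameAux A F hϖ n := by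
  obtain ⟨d', _, hu⟩ := existsUnique_tameSymbol A F n
  rw [hu d hd, hu _ (isTameSymbol_tameAux A F hϖ n)]

theorem tame_lcons_uniformizer {n : ℕ} (b : K F n) :
    specMap A F hϖ (n + 1) (lcons (unitFrac A F ϖ hϖ.ne_zero) b) = 0 := by
  have : (specMap A F hϖ (n + 1)).comp (lcons (unitFrac A F ϖ hϖ.ne_zero)) = 0 :=
    hom_ext fun x => by
      rw [AddMonoidHom.comp_apply, lcons_symbol, specMap_symbol, symbol_eq_lcons,
        Fin.cons_zero, (ord_uPart_self F hϖ).2, map_one, lcons_one]
      rfl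
  exact DFunLike.congr_fun this b

/-- The subgroup generated by symbols starting with a one-unit. -/
def U1 : ∀ n, AddSubgroup (K F n)
  | 0 => ⊥
  | n + 1 => AddSubgroup.closure {z : K F (n + 1) | ∃ (u₀ : Aˣ) (w : Fin n → Fˣ),
      residue A (u₀ : A) = 1 ∧ z = symbol (Fin.cons (unitToFrac A F u₀) w)}

theorem lcons_oneUnit_mem {u : Aˣ} (hu : residue A (u : A) = 1) {n : ℕ} (z : K F n) :
    lcons (unitToFrac A F u) z ∈ U1 A F (n + 1) := by
  refine le_closure_symbol (AddSubgroup.comap (lcons (unitToFrac A F u)) (U1 A F (n + 1)))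
    (fun x => ?_) z
  rw [AddSubgroup.mem_comap, lcons_symbol]
  exact AddSubgroup.subset_closure ⟨u, x, hu, rfl⟩

theorem lcons_mem_U1 (x : Fˣ) : ∀ {n : ℕ} {z : K F n}, z ∈ U1 A F n → lcons x z ∈ U1 A F (n + 1)
  | 0, z, hz => by rw [U1, AddSubgroup.mem_bot] at hz; subst hz; simp
  | n + 1, z, hz => by
    induction hz using AddSubgroup.closure_induction with
    | mem z hz =>
      obtain ⟨u, w, hu, rfl⟩ := hz
      rw [← lcons_symbol, lcons_comm]
      exact neg_mem (lcons_oneUnit_mem A F hu _)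
    | zero => simp
    | add a b _ _ ha hb => rw [map_add]; exact add_mem ha hb
    | neg a _ ha => rw [map_neg]; exact neg_mem ha

/-- A chosen lift of a unit of the residue field. -/
noncomputable def liftU (a : (ResidueField A)ˣ) : Aˣ :=
  (surjective_units_map_of_local_ringHom (residue A) residue_surjective inferInstance a).choose

theorem unitResidue_liftU (a : (ResidueField A)ˣ) : unitResidue A (liftU A a) = a :=
  (surjective_units_map_of_local_ringHom (residue A) residue_surjective inferInstance a).choose_spec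

theorem residue_liftU (a : (ResidueField A)ˣ) : residue A (liftU A a : A) = a :=
  congrArg Units.val (unitResidue_liftU A a)

theorem lcons_sub_mem {u v : Aˣ} (h : residue A (u : A) = residue A (v : A)) {n : ℕ} (z : K F n) :
    lcons (unitToFrac A F u) z - lcons (unitToFrac A F v) z ∈ U1 A F (n + 1) := by
  rw [← lcons_div, ← map_div]
  refine lcons_oneUnit_mem A F ?_ z
  rw [div_eq_mul_inv, Units.val_mul, map_mul, h, ← map_mul, Units.mul_inv, map_one]

/-- Lifting unit symbols from the residue field, modulo one-units. -/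
noncomputable def liftSystem :
    SymbolSystem (ResidueField A) (fun n => K F n ⧸ U1 A F n) where
  op a n := QuotientAddGroup.map (U1 A F n) (U1 A F (n + 1))
    (lcons (unitToFrac A F (liftU A a))) fun z hz => lcons_mem_U1 A F _ hz
  op_mul a b n z := by
    induction z using QuotientAddGroup.induction_on with
    | H z =>
      refine (QuotientAddGroup.eq_iff_sub_mem (N := U1 A F (n + 1))).mpr ?_
      change lcons _ z - (lcons _ z + lcons _ z) ∈ _
      rw [← lcons_mul, ← map_mul]
      exact lcons_sub_mem A F (by simp [residue_liftU]) z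
  op_steinberg a b h n z := by
    induction z using QuotientAddGroup.induction_on with
    | H z =>
      refine (QuotientAddGroup.eq_zero_iff (N := U1 A F (n + 1 + 1)) _).mpr ?_
      have hr : residue A (1 - (liftU A a : A)) = b := by
        rw [map_sub, map_one, residue_liftU]; linear_combination -h
      obtain ⟨c, hc⟩ := (residue_ne_zero_iff_isUnit (1 - (liftU A a : A))).mp (hr ▸ b.ne_zero)
      have hs : lcons (unitToFrac A F (liftU A a)) (lcons (unitToFrac A F c) z) = 0 :=
        lcons_steinberg (by rw [coe_unitToFrac, coe_unitToFrac, ← map_add, hc, add_sub_cancel, map_one]) z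
      have := lcons_mem_U1 A F (unitToFrac A F (liftU A a))
        (lcons_sub_mem A F (u := liftU A b) (v := c) (by rw [residue_liftU, hc, hr]) z)
      rwa [map_sub, hs, sub_zero] at this
  base := QuotientAddGroup.mk (symbol Fin.elim0)

theorem liftSystem_symbol : ∀ (n : ℕ) (u : Fin n → Aˣ),
    (liftSystem A F).toHom n (symbol fun i => unitResidue A (u i)) =
      QuotientAddGroup.mk (symbol fun i => unitToFrac A F (u i))
  | 0, u => by
    rw [SymbolSystem.toHom_symbol_zero]
    exact congrArg QuotientAddGroup.mk (symbol_congr fun i => i.elim0)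
  | n + 1, u => by
    rw [SymbolSystem.toHom_symbol,
      show (Fin.tail fun i => unitResidue A (u i)) = fun i => unitResidue A (Fin.tail u i) from rfl,
      liftSystem_symbol n (Fin.tail u), symbol_eq_lcons (fun i => unitToFrac A F (u i))]
    refine (QuotientAddGroup.eq_iff_sub_mem (N := U1 A F (n + 1))).mpr ?_
    exact lcons_sub_mem A F (u := liftU A (unitResidue A (u 0))) (v := u 0)
      (residue_liftU A _) (symbol fun i => unitToFrac A F (Fin.tail u i))

theorem liftSystem_specMap {n : ℕ} {z : K F n} (hz : z ∈ U A F n) :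
    (liftSystem A F).toHom n (specMap A F hϖ n z) = QuotientAddGroup.mk z := by
  induction hz using AddSubgroup.closure_induction with
  | mem z hz =>
    obtain ⟨u, rfl⟩ := hz
    rw [specMap_symbol]
    simp only [(ord_uPart_unitToFrac F hϖ _).2]
    exact liftSystem_symbol A F n u
  | zero => simp
  | add a b _ _ ha hb => rw [map_add, map_add, ha, hb, QuotientAddGroup.mk_add]
  | neg a _ ha => rw [map_neg, map_neg, ha, QuotientAddGroup.mk_neg]

theorem mem_U1_of_specMap_eq_zero {n : ℕ} {z : K F n} (hz : z ∈ U A F n)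
    (h : specMap A F hϖ n z = 0) : z ∈ U1 A F n := by
  have := liftSystem_specMap A F hϖ hz
  rw [h, map_zero] at this
  exact (QuotientAddGroup.eq_zero_iff z).mp this.symm

theorem exists_mem_U_specMap_eq {n : ℕ} (y : K (ResidueField A) n) :
    ∃ z ∈ U A F n, specMap A F hϖ n z = y := by
  refine le_closure_symbol (AddSubgroup.map (specMap A F hϖ n) (U A F n)) (fun x => ?_) y
  refine ⟨symbol fun i => unitToFrac A F (liftU A (x i)), symbol_units_mem A F _, ?_⟩
  rw [specMap_symbol]
  exact symbol_congr fun i => by rw [(ord_uPart_unitToFrac F hϖ _).2, unitResidue_liftU]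

include hϖ in
theorem lcons_oneUnit_uniformizer_mem {u : Aˣ} (hu : residue A (u : A) = 1) {n : ℕ} {z : K F n}
    (hz : z ∈ U A F n) :
    lcons (unitToFrac A F u) (lcons (unitFrac A F ϖ hϖ.ne_zero) z) ∈ U A F (n + 1 + 1) := by
  have core : ∀ (v : Aˣ) (a : Aˣ), (v : A) = 1 - ϖ * a →
      lcons (unitToFrac A F v) (lcons (unitFrac A F ϖ hϖ.ne_zero) z) ∈ U A F (n + 1 + 1) := by
    intro v a hva
    have h0 : lcons (unitToFrac A F v)
        (lcons (unitFrac A F ϖ hϖ.ne_zero * unitToFrac A F a) z) = 0 :=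
      lcons_steinberg (by simp [coe_unitToFrac, hva]) z
    rw [lcons_mul, map_add] at h0
    rw [eq_neg_of_add_eq_zero_left h0]
    exact neg_mem (lcons_unit_mem A F _ (lcons_unit_mem A F _ hz))
  obtain ⟨a, ha⟩ : ϖ ∣ 1 - (u : A) := by
    rw [← Ideal.mem_span_singleton, ← (IsDiscreteValuationRing.irreducible_iff_uniformizer ϖ).mp hϖ,
      ← residue_eq_zero_iff, map_sub, map_one, hu, sub_self]
  by_cases hau : IsUnit a
  · obtain ⟨a, rfl⟩ := hau
    exact core u a (by rw [← ha, sub_sub_cancel])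
  · have ha0 : residue A a = 0 := (residue_eq_zero_iff a).mpr ((mem_maximalIdeal a).mpr hau)
    obtain ⟨v, hv⟩ : IsUnit (1 - ϖ) :=
      (residue_ne_zero_iff_isUnit _).mp (by simp [residue_uniformizer hϖ])
    obtain ⟨b, hb⟩ : IsUnit ((a - 1) * (v⁻¹ : Aˣ)) :=
      ((residue_ne_zero_iff_isUnit _).mp (by simp [ha0])).mul v⁻¹.isUnit
    have e : u = v * (u * v⁻¹) := by rw [mul_left_comm, mul_inv_cancel, mul_one]
    rw [e, map_mul, lcons_mul]
    refine add_mem (core v 1 (by simp [hv])) (core _ b ?_)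
    rw [Units.val_mul, hb]
    have hvv := Units.mul_inv v
    linear_combination (-(v⁻¹ : Aˣ) : A) * ha + hvv - (v⁻¹ : Aˣ) * hv

theorem U1_le_U (n : ℕ) : U1 A F (n + 1) ≤ U A F (n + 1) := by
  obtain ⟨ϖ, hϖ⟩ := IsDiscreteValuationRing.exists_irreducible A
  refine (AddSubgroup.closure_le _).mpr ?_
  rintro _ ⟨u, w, hu, rfl⟩
  rw [SetLike.mem_coe, ← lcons_symbol]
  cases n with
  | zero => exact lcons_unit_mem A F u (U_zero A F _)
  | succ m =>
    obtain ⟨a, ha, b, hb, hab⟩ := exists_eq_add_lcons A F hϖ m (symbol w)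
    rw [hab, map_add]
    exact add_mem (lcons_unit_mem A F u ha) (lcons_oneUnit_uniformizer_mem A F hϖ hu hb)

variable {n : ℕ} {d : K F (n + 1) →+ K (ResidueField A) n} (hd : IsTameSymbol A F n d)
include hd

theorem tame_surjective_and_ker :
    Function.Surjective d ∧ d.ker = U A F (n + 1) := by
  obtain ⟨ϖ, hϖ⟩ := IsDiscreteValuationRing.exists_irreducible A
  refine ⟨fun y => ?_, le_antisymm (fun x hx => ?_) fun x hx => tame_eq_zero_of_mem A F hd hx⟩
  · obtain ⟨z, hz, rfl⟩ := exists_mem_U_specMap_eq A F hϖ y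
    exact ⟨_, spec_of_mem A F hϖ hd hϖ hz⟩
  · obtain ⟨a, ha, b, hb, rfl⟩ := exists_eq_add_lcons A F hϖ n x
    rw [AddMonoidHom.mem_ker, tame_apply A F hϖ hd ha hb] at hx
    exact add_mem ha (U1_le_U A F n (lcons_mem_U1 A F _ (mem_U1_of_specMap_eq_zero A F hϖ hb hx)))

theorem pair_surjective_and_ker :
    Function.Surjective (fun x => (specMap A F hϖ (n + 1) x, d x)) ∧
      ∀ x, (specMap A F hϖ (n + 1) x = 0 ∧ d x = 0) ↔ x ∈ U1 A F (n + 1) := by
  refine ⟨?_, fun x => ⟨?_, ?_⟩⟩
  · rintro ⟨y, y'⟩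
    obtain ⟨a, ha, rfl⟩ := exists_mem_U_specMap_eq A F hϖ y
    obtain ⟨b, hb, rfl⟩ := exists_mem_U_specMap_eq A F hϖ y'
    refine ⟨a + lcons (unitFrac A F ϖ hϖ.ne_zero) b, Prod.ext ?_ (tame_apply A F hϖ hd ha hb)⟩
    simp [tame_lcons_uniformizer]
  · rintro ⟨h1, h2⟩
    obtain ⟨a, ha, b, hb, rfl⟩ := exists_eq_add_lcons A F hϖ n x
    rw [tame_apply A F hϖ hd ha hb] at h2
    rw [map_add, tame_lcons_uniformizer, add_zero] at h1
    exact add_mem (mem_U1_of_specMap_eq_zero A F hϖ ha h1)
      (lcons_mem_U1 A F _ (mem_U1_of_specMap_eq_zero A F hϖ hb h2))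
  · intro hx
    refine ⟨?_, tame_eq_zero_of_mem A F hd (U1_le_U A F n hx)⟩
    have : U1 A F (n + 1) ≤ (specMap A F hϖ (n + 1)).ker := by
      refine (AddSubgroup.closure_le _).mpr ?_
      rintro _ ⟨u, w, hu, rfl⟩
      rw [SetLike.mem_coe, AddMonoidHom.mem_ker, specMap_symbol, symbol_eq_lcons]
      have h1 : unitResidue A u = 1 := Units.ext hu
      rw [Fin.cons_zero, (ord_uPart_unitToFrac F hϖ u).2, h1, lcons_one]
    exact this hx

include hϖ in
theorem spec_eq_tame_neg_uniformizer (z : K F n) :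
    specMap A F hϖ n z = d (lcons (-unitFrac A F ϖ hϖ.ne_zero) z) := by
  have hneg : Irreducible (-ϖ) := Associated.irreducible (Associated.neg_right (Associated.refl ϖ)) hϖ
  have hun : unitFrac A F (-ϖ) hneg.ne_zero = -unitFrac A F ϖ hϖ.ne_zero := by ext; simp
  cases n with
  | zero =>
    rw [← spec_of_mem A F hϖ hd hneg (U_zero A F z), hun]
  | succ m =>
    obtain ⟨a, ha, b, hb, rfl⟩ := exists_eq_add_lcons A F hϖ m z
    have hz : lcons (-unitFrac A F ϖ hϖ.ne_zero) (lcons (unitFrac A F ϖ hϖ.ne_zero) b) = 0 := by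
      rw [lcons_comm, lcons_neg_self, neg_zero]
    rw [map_add, tame_lcons_uniformizer, add_zero, map_add, hz, add_zero, ← hun,
      spec_of_mem A F hϖ hd hneg ha]

omit hd in
theorem tame_unit_lcons {n : ℕ} {d : K F (n + 1) →+ K (ResidueField A) n}
    (hd : IsTameSymbol A F n d) {d' : K F (n + 1 + 1) →+ K (ResidueField A) (n + 1)}
    (hd' : IsTameSymbol A F (n + 1) d') (u : Aˣ) (ρ : K F (n + 1)) :
    d' (lcons (unitToFrac A F u) ρ) = - lcons (unitResidue A u) (d ρ) := by
  obtain ⟨ϖ, hϖ⟩ := IsDiscreteValuationRing.exists_irreducible A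
  obtain ⟨a, ha, b, hb, rfl⟩ := exists_eq_add_lcons A F hϖ n ρ
  have hspec : specMap A F hϖ (n + 1) (lcons (unitToFrac A F u) b) =
      lcons (unitResidue A u) (specMap A F hϖ n b) := by
    have : (specMap A F hϖ (n + 1)).comp (lcons (unitToFrac A F u)) =
        (lcons (unitResidue A u)).comp (specMap A F hϖ n) := hom_ext fun x => by
      simp only [AddMonoidHom.comp_apply, lcons_symbol, specMap_symbol]
      exact symbol_congr fun i => by
        cases i using Fin.cases <;> simp [(ord_uPart_unitToFrac F hϖ u).2]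
    exact DFunLike.congr_fun this b
  rw [tame_apply A F hϖ hd ha hb, map_add, map_add,
    tame_eq_zero_of_mem A F hd' (lcons_unit_mem A F u ha), zero_add, lcons_comm, map_neg,
    spec_of_mem A F hϖ hd' hϖ (lcons_unit_mem A F u hb), hspec]

omit hd in
theorem map_field_mem_U {E : Type w} [Field E] (φ : E →+* A) (ψ : E →+* F)
    (h : ψ = (algebraMap A F).comp φ) {m : ℕ} (x : K E m) : MilK.map ψ m x ∈ U A F m := by
  subst h
  refine le_closure_symbol (AddSubgroup.comap (MilK.map _ m) (U A F m)) (fun y => ?_) x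
  rw [AddSubgroup.mem_comap, map_symbol]
  convert symbol_units_mem A F (fun i => Units.map (φ : E →* A) (y i)) using 3 with i
  ext; rfl

end Maps

end Groth.Agent.Lib.MilnorK
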