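import Groth.Agent.Lib.MilnorK.Tame

/-!
# Milnor K-theory: further properties of the tame symbol
-/

set_option linter.unusedSectionVars false

universe u v w

namespace Groth.Agent.Lib.MilnorK

open MilK Function DirectSum IsLocalRing

variable (A : Type u) [CommRing A] [IsDomain A] [IsDiscreteValuationRing A]
  (F : Type v) [Field F] [Algebra A F] [IsFractionRing A F]

theorem tame_symbol_two {d : K F 2 →+ K (ResidueField A) 1} (hd : IsTameSymbol A F 1 d) {ϖ : A}
    (hϖ : Irreducible ϖ) (i j : ℤ) (u u' : Aˣ) :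
    d (symbol ![unitFrac A F ϖ hϖ.ne_zero ^ i * unitToFrac A F u,
        unitFrac A F ϖ hϖ.ne_zero ^ j * unitToFrac A F u']) =
      symbol ![(-1) ^ (i * j) * unitResidue A u' ^ i * unitResidue A u ^ (-j)] := by
  rw [isTameSymbol_eq A F hϖ hd, symbol_two, symbol_one]
  simp only [tameAux, AddMonoidHom.comp_apply, SymbolSystem.toHom_lcons,
    SymbolSystem.toHom_symbol_zero, AddMonoidHom.coe_snd, LinearMap.toAddMonoidHom_coe, pairSystem,
    ord_decomp, uPart_decomp, opPair_snd, opPair_fst]
  have hc : ∀ z : K (ResidueField A) 1, component ℤ ℕ (fun n => K (ResidueField A) n) 1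
      (of (fun n => K (ResidueField A) n) 1 z) = z := fun z => by
    rw [← DirectSum.lof_eq_of ℤ, component.lof_self]
  simp only [map_zero, neg_zero, zero_add, add_zero, map_zsmul, map_add, map_neg, L_of, hc,
    lcons_mul, lcons_zpow]
  module

theorem exists_pow_eq_of_residue_one [IsAdicComplete (maximalIdeal A) A] {m : ℕ} (hm : 0 < m)
    (hmκ : IsUnit (m : ResidueField A)) {u : Aˣ} (hu : residue A (u : A) = 1) :
    ∃ v : Aˣ, v ^ m = u := by
  have hmA : IsUnit (m : A) := (residue_ne_zero_iff_isUnit _).mp (by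
    rw [map_natCast]; exact hmκ.ne_zero)
  obtain ⟨r, hr, hr'⟩ := HenselianRing.is_henselian (I := maximalIdeal A)
    (Polynomial.X ^ m - Polynomial.C (u : A)) (Polynomial.monic_X_pow_sub_C _ hm.ne') 1
    (by rw [← residue_eq_zero_iff]; simp [hu])
    (by
      refine IsUnit.map (Ideal.Quotient.mk _) ?_
      simpa [Polynomial.derivative_X_pow] using hmA)
  have hr2 : residue A r = 1 := by
    rw [← sub_eq_zero, ← map_one (residue A), ← map_sub, residue_eq_zero_iff]
    exact hr'
  obtain ⟨v, rfl⟩ := (residue_ne_zero_iff_isUnit r).mp (by rw [hr2]; exact one_ne_zero)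
  exact ⟨v, Units.ext (by simpa [sub_eq_zero] using hr)⟩

theorem eq_smul_of_complete [IsAdicComplete (maximalIdeal A) A] {n : ℕ}
    {d : K F (n + 1) →+ K (ResidueField A) n} (hd : IsTameSymbol A F n d) {ϖ : A}
    (hϖ : Irreducible ϖ) {m : ℕ} (hm : 0 < m) (hmκ : IsUnit (m : ResidueField A))
    (x : K F (n + 1)) (hsx : ∃ a, specMap A F hϖ (n + 1) x = m • a) (hdx : ∃ b, d x = m • b) :
    ∃ y : K F (n + 1), x = m • y := by
  obtain ⟨hsurj, hker⟩ := pair_surjective_and_ker A F hϖ hd
  obtain ⟨a, ha⟩ := hsx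
  obtain ⟨b, hb⟩ := hdx
  obtain ⟨y, hy⟩ := hsurj (a, b)
  obtain ⟨hy1, hy2⟩ := Prod.mk.inj hy
  have hmem : x - m • y ∈ U1 A F (n + 1) := (hker _).mp ⟨by
    rw [map_sub, map_nsmul, hy1, ha, sub_self], by rw [map_sub, map_nsmul, hy2, hb, sub_self]⟩
  have hle : U1 A F (n + 1) ≤ (nsmulAddMonoidHom m : K F (n + 1) →+ K F (n + 1)).range := by
    refine (AddSubgroup.closure_le _).mpr ?_
    rintro _ ⟨u, w, hu, rfl⟩
    obtain ⟨v, rfl⟩ := exists_pow_eq_of_residue_one A hm hmκ hu
    exact ⟨lcons (unitToFrac A F v) (symbol w), by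
      rw [nsmulAddMonoidHom_apply, ← lcons_symbol (unitToFrac A F (v ^ m)), map_pow, lcons_pow]⟩
  obtain ⟨y', hy'⟩ := hle hmem
  rw [nsmulAddMonoidHom_apply] at hy'
  exact ⟨y + y', by rw [nsmul_add, hy']; abel⟩

theorem tame_map_field_eq_zero {E : Type w} [Field E] (φ : E →+* A) (ψ : E →+* F)
    (h : ψ = (algebraMap A F).comp φ) {n : ℕ} {d : K F (n + 1) →+ K (ResidueField A) n}
    (hd : IsTameSymbol A F n d) (x : K E (n + 1)) : d (MilK.map ψ (n + 1) x) = 0 :=
  tame_eq_zero_of_mem A F hd (map_field_mem_U A F φ ψ h x)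

theorem specMap_map_field {ϖ : A} (hϖ : Irreducible ϖ) {E : Type w} [Field E] (φ : E →+* A)
    (ψ : E →+* F) (h : ψ = (algebraMap A F).comp φ) {n : ℕ} (x : K E n) :
    specMap A F hϖ n (MilK.map ψ n x) = MilK.map ((residue A).comp φ) n x := by
  subst h
  have : (specMap A F hϖ n).comp (MilK.map ((algebraMap A F).comp φ) n) =
      MilK.map ((residue A).comp φ) n := hom_ext fun y => by
    simp only [AddMonoidHom.comp_apply, map_symbol, specMap_symbol]
    refine symbol_congr fun i => ?_
    have hy : Units.map (((algebraMap A F).comp φ : E →+* F) : E →* F) (y i) =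
        unitToFrac A F (Units.map (φ : E →* A) (y i)) := by ext; rfl
    rw [hy, (ord_uPart_unitToFrac F hϖ _).2]
    ext; rfl
  exact DFunLike.congr_fun this x

section Extension

variable (B : Type u) [CommRing B] [IsDomain B] [IsDiscreteValuationRing B] [Algebra A B]
  [IsLocalHom (algebraMap A B)] (E : Type v) [Field E] [Algebra B E] [IsFractionRing B E]
  [Algebra F E] [Algebra A E] [IsScalarTower A F E] [IsScalarTower A B E]

theorem tame_map_extension {e : ℕ}
    (he : Ideal.map (algebraMap A B) (maximalIdeal A) = maximalIdeal B ^ e) {n : ℕ}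
    {dA : K F (n + 1) →+ K (ResidueField A) n} (hdA : IsTameSymbol A F n dA)
    {dB : K E (n + 1) →+ K (ResidueField B) n} (hdB : IsTameSymbol B E n dB) (x : K F (n + 1)) :
    dB (MilK.map (algebraMap F E) (n + 1) x) =
      e • MilK.map (ResidueField.map (algebraMap A B)) n (dA x) := by
  obtain ⟨p, hp⟩ := IsDiscreteValuationRing.exists_irreducible A
  obtain ⟨q, hq⟩ := IsDiscreteValuationRing.exists_irreducible B
  have hunit : ∀ u : Aˣ, Units.map ((algebraMap F E : F →+* E) : F →* E) (unitToFrac A F u) =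
      unitToFrac B E (Units.map ((algebraMap A B : A →+* B) : A →* B) u) := fun u => by
    ext
    simp only [Units.coe_map, MonoidHom.coe_coe, coe_unitToFrac, ← IsScalarTower.algebraMap_apply]
  have hU : ∀ (m : ℕ) (z : K F m), z ∈ U A F m → MilK.map (algebraMap F E) m z ∈ U B E m ∧
      specMap B E hq m (MilK.map (algebraMap F E) m z) =
        MilK.map (ResidueField.map (algebraMap A B)) m (specMap A F hp m z) := by
    intro m z hz
    induction hz using AddSubgroup.closure_induction with
    | mem z hz =>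
      obtain ⟨v, rfl⟩ := hz
      simp only [map_symbol, hunit, specMap_symbol, (ord_uPart_unitToFrac E hq _).2,
        (ord_uPart_unitToFrac F hp _).2]
      refine ⟨symbol_units_mem B E _, symbol_congr fun i => ?_⟩
      ext; simp [unitResidue]
    | zero => simp
    | add a b _ _ ha hb =>
      exact ⟨by rw [map_add]; exact add_mem ha.1 hb.1, by simp only [map_add, ha.2, hb.2]⟩
    | neg a _ ha =>
      exact ⟨by rw [map_neg]; exact neg_mem ha.1, by simp only [map_neg, ha.2]⟩
  obtain ⟨w, hw⟩ : Associated (q ^ e) (algebraMap A B p) := by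
    rw [← Ideal.span_singleton_eq_span_singleton, ← Ideal.span_singleton_pow,
      ← (IsDiscreteValuationRing.irreducible_iff_uniformizer q).mp hq, ← he,
      (IsDiscreteValuationRing.irreducible_iff_uniformizer p).mp hp, Ideal.map_span, Set.image_singleton]
  have hpE : Units.map ((algebraMap F E : F →+* E) : F →* E) (unitFrac A F p hp.ne_zero) =
      unitFrac B E q hq.ne_zero ^ e * unitToFrac B E w := by
    ext
    simp only [Units.coe_map, MonoidHom.coe_coe, coe_unitFrac, Units.val_mul,
      Units.val_pow_eq_pow_val, coe_unitToFrac, ← IsScalarTower.algebraMap_apply]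
    rw [IsScalarTower.algebraMap_apply A B E, ← hw, map_mul, map_pow]
  obtain ⟨a, ha, b, hb, rfl⟩ := exists_eq_add_lcons A F hp n x
  obtain ⟨hb1, hb2⟩ := hU n b hb
  rw [tame_apply A F hp hdA ha hb, map_add, map_add, tame_eq_zero_of_mem B E hdB (hU _ a ha).1,
    zero_add, map_lcons, hpE, lcons_mul, lcons_pow, map_add, map_nsmul,
    tame_eq_zero_of_mem B E hdB (lcons_unit_mem B E w hb1), add_zero,
    spec_of_mem B E hq hdB hq hb1, hb2]

end Extension

end Groth.Agent.Lib.MilnorK
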